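import Cfsg.Agent.H69.SLFour.Quad

/-!
The similarity group of a quadratic form, odd characteristic, is maximal in the special linear group
from dimension five on.
-/

set_option autoImplicit false

open Cfsg

namespace Cfsg.Agent.H36.SLFiveForms

open scoped MatrixGroups Matrix
open Matrix QuadraticMap
open Cfsg.Agent.H95 hiding exists_iso_perp exists_iso_nonorth
open Cfsg.Agent.H69.SLFour (tv_of_good specialLinear_le_of_tv eq_smul_of_zeros)

set_option linter.unusedSectionVars false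

attribute [-simp] Matrix.coe_units_inv

variable {ι : Type} [Fintype ι] [DecidableEq ι] {F : Type*} [Field F] {Q : (ι → F) → F}

/-- A good vector: orthogonal to `e`, its image orthogonal to the image of `e`, both anisotropic. -/
lemma exists_good (hQ : Geo.IsNondegenerateQuadraticForm Q) (h2 : (2 : F) ≠ 0)
    (hn : 5 ≤ Fintype.card ι) {g : GL ι F} {e : ι → F} (he : Q e = 0)
    (hge : Q ((g : Matrix ι ι F) *ᵥ e) ≠ 0) :
    ∃ c, polar Q c e = 0 ∧ polar Q ((g : Matrix ι ι F) *ᵥ c) ((g : Matrix ι ι F) *ᵥ e) = 0 ∧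
      Q c ≠ 0 ∧ Q ((g : Matrix ι ι F) *ᵥ c) ≠ 0 := by
  set G := (g : Matrix ι ι F) with hG
  set u := G *ᵥ e with hu
  have huu : polar Q u u ≠ 0 := by rw [p_self hQ]; exact mul_ne_zero h2 hge
  have hee : polar Q e e = 0 := by rw [p_self hQ, he, mul_zero]
  let π : (ι → F) → ι → F := fun z => z - (polar Q (G *ᵥ z) u / polar Q u u) • e
  have hπ : ∀ z, polar Q z e = 0 →
      polar Q (π z) e = 0 ∧ polar Q (G *ᵥ π z) u = 0 ∧ Q (π z) = Q z := by
    intro z hz
    refine ⟨?_, ?_, ?_⟩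
    · simp only [π, p_sub_left hQ, p_smul_left hQ, hz, hee, mul_zero, sub_zero]
    · simp only [π, mulVec_sub, mulVec_smul, ← hu, p_sub_left hQ, p_smul_left hQ]
      rw [div_mul_cancel₀ _ huu, sub_self]
    · simp only [π, q_sub hQ, q_smul hQ, he, p_smul_right hQ, hz, mul_zero, sub_zero, add_zero]
  have hQg : Geo.IsNondegenerateQuadraticForm fun x => Q (G *ᵥ x) := by
    have := S5644.twist hQ g⁻¹
    rwa [inv_inv] at this
  have hpg : ∀ x y, polar (fun x => Q (G *ᵥ x)) x y = polar Q (G *ᵥ x) (G *ᵥ y) := fun x y => by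
    simp only [polar, mulVec_add]
  obtain ⟨a, hca, hga⟩ := H57.SLSmall.exists_aniso_ker_half hQg h2
    ![dv (polar fun x => Q (G *ᵥ x)) e, dv (polar Q) e] (by omega) 0 (v := e) rfl hge
  have hae : polar Q a e = 0 := by rw [← qv_dot hQ]; exact hca 1
  have hau : polar Q (G *ᵥ a) u = 0 := by rw [hu, ← hpg, ← qv_dot hQg]; exact hca 0
  by_cases hQa : Q a = 0
  swap
  · exact ⟨a, hae, hau, hQa, hga⟩
  obtain ⟨z, hz, hz'⟩ := exists_aniso_ker hQ h2 ![dv (polar Q) e, dv (polar Q) a] (by omega)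
  have hze : polar Q z e = 0 := by rw [← qv_dot hQ]; exact hz 0
  have hza : polar Q z a = 0 := by rw [← qv_dot hQ]; exact hz 1
  obtain ⟨hye, hyu, hyQ⟩ := hπ z hze
  have hya : polar Q (π z) a = 0 := by
    simp only [π, p_sub_left hQ, p_smul_left hQ, hza, p_comm hQ e a, hae, mul_zero, sub_zero]
  set y := π z
  have hQy : Q y ≠ 0 := by rw [hyQ]; exact hz'
  by_cases hgy : Q (G *ᵥ y) = 0
  swap
  · exact ⟨y, hye, hyu, hQy, hgy⟩
  by_cases hs : Q (G *ᵥ (a + y)) = 0
  swap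
  · refine ⟨a + y, by rw [p_add_left hQ, hae, hye, add_zero],
      by rw [mulVec_add, p_add_left hQ, hau, hyu, add_zero], ?_, hs⟩
    rw [q_add hQ, hQa, p_comm hQ, hya, zero_add, add_zero]
    exact hQy
  refine ⟨a - y, by rw [p_sub_left hQ, hae, hye, sub_zero],
    by rw [mulVec_sub, p_sub_left hQ, hau, hyu, sub_zero], ?_, fun h => hga ?_⟩
  · rw [q_sub hQ, hQa, p_comm hQ, hya, zero_add, sub_zero]
    exact hQy
  rw [mulVec_add, q_add hQ, hgy, add_zero] at hs
  rw [mulVec_sub, q_sub hQ, hgy, add_zero] at h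
  have : (2 : F) * Q (G *ᵥ a) = 0 := by linear_combination hs + h
  exact (mul_eq_zero.1 this).resolve_left h2

/-- The maximality statement from dimension five on. -/
theorem quadratic_maximal {F : Type*} [Field F] [Fintype F] (hodd : Odd (Fintype.card F))
    {n : ℕ} (hn5 : 5 ≤ n) (Q : (Fin n → F) → F) (hQ : Geo.IsNondegenerateQuadraticForm Q) :
    Geo.IsMaximalIn (Geo.specialLinear (Fin n) F)
      (Geo.quadSimilarityGroup Q ⊓ Geo.specialLinear (Fin n) F) := by
  have hn : 5 ≤ Fintype.card (Fin n) := by simpa using hn5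
  have hn4 : 4 ≤ Fintype.card (Fin n) := by omega
  have h2 : (2 : F) ≠ 0 := by
    refine Ring.two_ne_zero fun h => ?_
    have := FiniteField.even_card_of_char_two (F := F) h
    rw [Nat.odd_iff] at hodd
    omega
  set SL := Geo.specialLinear (Fin n) F with hSL
  refine ⟨lt_of_le_of_ne inf_le_right ?_, fun M hSM hMSL => ?_⟩
  · intro hEq
    obtain ⟨a, -, ha⟩ := exists_aniso_ker hQ h2 (![] : Fin 0 → Fin n → F) (by omega)
    obtain ⟨b, hb', hb⟩ := exists_aniso_ker hQ h2 ![dv (polar Q) a] (by omega)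
    have hab : polar Q b a = 0 := by rw [← qv_dot hQ]; exact hb' 0
    have h0 : dv (polar Q) b ⬝ᵥ a = 0 := by rw [qv_dot hQ, p_comm hQ, hab]
    obtain ⟨⟨μ, hμ⟩, -⟩ : tv a (dv (polar Q) b) h0 ∈ Geo.quadSimilarityGroup Q ⊓ SL :=
      hEq.symm ▸ tv_mem_specialLinear _ _ h0
    have e1 := hμ a
    rw [tv_mulVec, h0, zero_smul, add_zero] at e1
    have hμ1 : (μ : F) = 1 := (mul_eq_right₀ ha).1 e1.symm
    have e2 := hμ b
    rw [tv_mulVec, qv_dot hQ, q_add hQ, q_smul hQ, p_smul_right hQ, hab, p_self hQ, hμ1, one_mul,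
      mul_zero, add_zero, add_eq_left, mul_eq_zero, sq_eq_zero_iff, mul_eq_zero] at e2
    rcases e2 with (h | h) | h
    · exact h2 h
    · exact hb h
    · exact ha h
  by_cases hMS : M ≤ Geo.quadSimilarityGroup Q ⊓ SL
  · exact Or.inl (le_antisymm hMS hSM)
  right
  refine le_antisymm hMSL ?_
  obtain ⟨g, hgM, hgS⟩ := SetLike.not_le_iff_exists.1 hMS
  have hM : ∀ a b (ha : Q a ≠ 0) (hb : Q b ≠ 0), rfl' hQ h2 a ha * rfl' hQ h2 b hb ∈ M :=
    fun a b ha hb => hSM (S5644.refl_pair_mem hQ h2 a b ha hb)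
  have hsg : ∀ e c (he : Q e = 0) (hec : polar Q e c = 0), sg hQ e c he hec ∈ M :=
    fun e c he hec => hSM ⟨⟨1, fun v => by rw [Units.val_one, one_mul, sg_iso hQ]⟩,
      sg_mem_specialLinear hQ e c he hec⟩
  by_cases hmove : ∃ e, Q e = 0 ∧ Q ((g : Matrix (Fin n) (Fin n) F) *ᵥ e) ≠ 0
  · obtain ⟨e, he, hge⟩ := hmove
    obtain ⟨c, h1, h3, h4, h5⟩ := exists_good hQ h2 hn he hge
    obtain ⟨v, ψ, hv, hψ, hT⟩ := tv_of_good hQ h2 hM hsg hgM he hge h1 h3 h4 h5
    exact specialLinear_le_of_tv hQ h2 hsg hn4 hv hψ hT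
  exfalso
  push Not at hmove
  apply hgS
  refine ⟨?_, hMSL hgM⟩
  have hQg : Geo.IsNondegenerateQuadraticForm
      fun x => Q ((g : Matrix (Fin n) (Fin n) F) *ᵥ x) := by
    have := S5644.twist hQ g⁻¹
    rwa [inv_inv] at this
  obtain ⟨l, hl⟩ := eq_smul_of_zeros hQ h2 hn4 hQg hmove
  have hl0 : l ≠ 0 := by
    rintro rfl
    obtain ⟨a, -, ha⟩ := exists_aniso_ker hQg h2 (![] : Fin 0 → Fin n → F) (by omega)
    exact ha (by rw [hl a, zero_mul])
  exact ⟨Units.mk0 l hl0, hl⟩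

end Cfsg.Agent.H36.SLFiveForms
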